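import Cfsg.Agent.H65.SelfNorm.Basic
import Mathlib.GroupTheory.Transfer
import Mathlib

/-!
# Simple groups in which every nonabelian subgroup is self-normalising have abelian centralisers
-/

set_option autoImplicit false
set_option linter.unusedSectionVars false
set_option linter.style.haveILetI false

namespace Cfsg.Agent.H65.SelfNorm

open Subgroup
open scoped Pointwise

universe u

/-- With an abelian Sylow subgroup, a central element of prime order is not in the derived
subgroup. -/
theorem not_mem_commutator {H : Type u} [Group H] [Finite H] {r : ℕ} [Fact r.Prime] (P : Sylow r H)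
    (hP : IsMulCommutative ↥(P : Subgroup H)) {x : H} (hx : orderOf x = r)
    (hc : ∀ h : H, h * x = x * h) : x ∉ commutator H := by
  intro hmem
  haveI := hP
  have hxP : x ∈ (P : Subgroup H) := by
    obtain ⟨T, hT⟩ := (IsPGroup.of_card (p := r) (n := 1) (G := ↥(zpowers x))
      (by rw [Nat.card_zpowers, hx, pow_one])).exists_le_sylow
    obtain ⟨g, rfl⟩ := MulAction.exists_smul_eq H T P
    rw [show ((g • T : Sylow r H) : Subgroup H) = MulAut.conj g • (T : Subgroup H) from rfl,
      Subgroup.mem_pointwise_smul_iff_inv_smul_mem, MulAut.smul_def, MulAut.conj_inv_apply,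
      show g⁻¹ * x * g = x by rw [mul_assoc, ← hc g, inv_mul_cancel_left]]
    exact hT (mem_zpowers x)
  let _ : CommGroup ↥(P : Subgroup H) :=
    { (inferInstance : Group ↥(P : Subgroup H)) with mul_comm := hP.is_comm.comm }
  let φ : H →* ↥(P : Subgroup H) := MonoidHom.transfer (MonoidHom.id ↥(P : Subgroup H))
  have h1 : φ x = 1 := by
    have : commutator H ≤ φ.ker := by
      rw [_root_.commutator_def, commutator_le]
      intro a _ b _
      rw [MonoidHom.mem_ker, map_commutatorElement, commutatorElement_eq_one_iff_mul_comm]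
      exact mul_comm _ _
    exact this hmem
  have key : ∀ (k : ℕ) (g₀ : H), g₀⁻¹ * x ^ k * g₀ ∈ (P : Subgroup H) →
      g₀⁻¹ * x ^ k * g₀ = x ^ k := fun k g₀ _ => by
    rw [mul_assoc, ← (show Commute g₀ (x ^ k) from (Commute.pow_right (hc g₀) k)).eq,
      inv_mul_cancel_left]
  rw [show φ x = _ from MonoidHom.transfer_eq_pow _ x key, MonoidHom.id_apply] at h1
  have h2 : r ∣ (P : Subgroup H).index :=
    hx.symm.dvd.trans (orderOf_dvd_of_pow_eq_one (congrArg Subtype.val h1))
  exact P.not_dvd_index h2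

/-- A finite cyclic subgroup has one subgroup of each order. -/
theorem cyclic_unique {H : Type u} [Group H] [Finite H] {y : H} {A B : Subgroup H}
    (hA : A ≤ zpowers y) (hB : B ≤ zpowers y) (h : Nat.card ↥A = Nat.card ↥B) : A = B := by
  classical
  haveI := Fintype.ofFinite H
  haveI : IsCyclic ↥(zpowers y) := inferInstance
  set n := Nat.card ↥A with hn
  have hn0 : 0 < n := Nat.card_pos
  set S := (Finset.univ : Finset ↥(zpowers y)).filter fun a => a ^ n = 1 with hS
  have hle : S.card ≤ n := IsCyclic.card_pow_eq_one_le hn0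
  have key : ∀ C : Subgroup H, C ≤ zpowers y → Nat.card ↥C = n → ∀ a : ↥(zpowers y),
      a ∈ S ↔ (a : H) ∈ C := by
    intro C hC hCn
    have hsub : ((Finset.univ : Finset ↥(zpowers y)).filter fun a : ↥(zpowers y) => (a : H) ∈ C) ⊆ S := by
      intro a ha
      refine Finset.mem_filter.2 ⟨Finset.mem_univ _, Subtype.ext ?_⟩
      rw [Subgroup.coe_pow, Subgroup.coe_one]
      exact orderOf_dvd_iff_pow_eq_one.1
        (hCn ▸ Subgroup.orderOf_dvd_natCard C (Finset.mem_filter.1 ha).2)
    have hc : ((Finset.univ : Finset ↥(zpowers y)).filter fun a : ↥(zpowers y) => (a : H) ∈ C).card = n := by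
      rw [← Fintype.card_subtype, ← Nat.card_eq_fintype_card, ← hCn]
      exact Nat.card_congr (Subgroup.subgroupOfEquivOfLe hC).toEquiv
    intro a
    rw [← Finset.eq_of_subset_of_card_le hsub (by omega)]
    simp
  refine le_antisymm (fun a ha => ?_) (fun a ha => ?_)
  · exact (key B hB h.symm ⟨a, hA ha⟩).1 ((key A hA rfl ⟨a, hA ha⟩).2 ha)
  · exact (key A hA rfl ⟨a, hB ha⟩).1 ((key B hB h.symm ⟨a, hB ha⟩).2 ha)

variable {G : Type u} [Group G] [Finite G]

/-- Centralisers of non-identity elements are abelian. -/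
theorem SN.centralizer_comm [IsSimpleGroup G] (hG : ¬ IsMulCommutative G) (h : SN G) {x₀ : G}
    (hx₀ : x₀ ≠ 1) : IsMulCommutative ↥(centralizer ({x₀} : Set G)) := by
  classical
  by_contra hc₀
  -- we may take `x` of prime order
  obtain ⟨r, hr, hrd⟩ := Nat.exists_prime_and_dvd (fun e => hx₀ (orderOf_eq_one_iff.1 e))
  haveI : Fact r.Prime := ⟨hr⟩
  obtain ⟨m, hm⟩ := hrd
  set x := x₀ ^ m with hxdef
  have hx : orderOf x = r := by
    have hpos := orderOf_pos x₀
    rw [hxdef, orderOf_pow' x₀ (fun e => by rw [e, mul_zero] at hm; omega), hm,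
      Nat.gcd_eq_right (dvd_mul_left m r), Nat.mul_div_cancel _ (by
        rcases Nat.eq_zero_or_pos m with e | e
        · rw [e, mul_zero] at hm; omega
        · exact e)]
  set H := centralizer ({x} : Set G) with hH
  have hle : centralizer ({x₀} : Set G) ≤ H := fun g hg =>
    mem_centralizer_singleton_iff.2
      ((show Commute g x₀ from mem_centralizer_singleton_iff.1 hg).pow_right m).eq
  have hnab : ¬ IsMulCommutative ↥H := fun hc =>
    hc₀ (comm_iff.2 fun a ha b hb => comm_iff.1 hc a (hle ha) b (hle hb))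
  have hxH : x ∈ H := mem_centralizer_singleton_iff.2 rfl
  set z : ↥H := ⟨x, hxH⟩ with hz
  have hzc : ∀ g : ↥H, g * z = z * g := fun g => Subtype.ext (mem_centralizer_singleton_iff.1 g.2)
  have hzo : orderOf z = r := by rw [hz, Subgroup.orderOf_mk, hx]
  have hsylH : ∀ (q : ℕ) [Fact q.Prime] (P : Sylow q ↥H), IsMulCommutative ↥(P : Subgroup ↥H) := by
    intro q _ P
    obtain ⟨T, hT⟩ := (P.2.map H.subtype).exists_le_sylow
    exact comm_iff.2 fun a ha b hb => Subtype.ext
      (comm_iff.1 (h.sylow_comm hG T) a (hT (mem_map_of_mem _ ha)) b (hT (mem_map_of_mem _ hb)))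
  obtain ⟨P₁⟩ := (inferInstance : Nonempty (Sylow r ↥H))
  have hzD : z ∉ commutator ↥H := not_mem_commutator P₁ (hsylH r P₁) hzo hzc
  -- nonabelian normal subgroups of `H` are `H`
  have hnormal : ∀ X : Subgroup ↥H, X.Normal → ¬ IsMulCommutative ↥X → X = ⊤ := by
    intro X hXn hX
    have hX' : ¬ IsMulCommutative ↥(X.map H.subtype) := fun hc => hX (comm_iff.2 fun a ha b hb =>
      Subtype.ext (comm_iff.1 hc a (mem_map_of_mem _ ha) b (mem_map_of_mem _ hb)))
    have hle := h.le_of_normal (X := X.map H.subtype) (M := H) (fun n hn =>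
      mem_normalizer_iff.2 fun w => ⟨fun hw => by
        obtain ⟨v, hv, rfl⟩ := hw
        exact ⟨⟨n, hn⟩ * v * ⟨n, hn⟩⁻¹, hXn.conj_mem v hv _, rfl⟩, fun hw => by
        obtain ⟨v, hv, hvw⟩ := hw
        refine ⟨⟨n, hn⟩⁻¹ * v * ⟨n, hn⟩, ?_, ?_⟩
        · have := hXn.conj_mem v hv (⟨n, hn⟩ : ↥H)⁻¹
          rwa [inv_inv] at this
        · rw [map_mul, map_mul, map_inv, hvw]; simp [mul_assoc]⟩) hX'
    refine eq_top_iff.2 fun a _ => ?_
    obtain ⟨v, hv, hva⟩ := hle a.2
    rwa [← Subtype.ext hva]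
  have hDne : commutator ↥H ≠ ⊤ := fun e => hzD (e ▸ mem_top z)
  have hDab : IsMulCommutative ↥(commutator ↥H) := by
    by_contra hc
    exact hDne (hnormal _ inferInstance hc)
  -- a maximal normal subgroup
  obtain ⟨L, hL, hDL⟩ := (eq_top_or_exists_le_coatom (commutator ↥H)).resolve_left hDne
  haveI hLn : L.Normal := by
    refine ⟨fun a ha g => ?_⟩
    have := L.mul_mem (hDL (commutator_mem_commutator (mem_top g) (mem_top a))) ha
    rwa [commutatorElement_def, inv_mul_cancel_right] at this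
  have hLab : IsMulCommutative ↥L := by
    by_contra hc
    exact hL.1 (hnormal _ hLn hc)
  obtain ⟨w, hw⟩ : ∃ w : ↥H, w ∉ L := by
    by_contra hcon
    push Not at hcon
    exact hL.1 (eq_top_iff.2 fun a _ => hcon a)
  -- `w` may be taken to be a `q`-element
  have hLw : L ⊔ zpowers w = ⊤ := hL.2 _ (lt_of_le_of_ne le_sup_left fun e =>
    hw (e ▸ mem_sup_right (mem_zpowers w)))
  obtain ⟨q, k, y, hq, hyk, hy⟩ : ∃ (q k : ℕ) (y : ↥H), q.Prime ∧ y ^ q ^ k = 1 ∧ y ∉ L := by
    suffices key : ∀ n : ℕ, ∀ y : ↥H, orderOf y = n → y ∉ L →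
        ∃ (q k : ℕ) (y : ↥H), q.Prime ∧ y ^ q ^ k = 1 ∧ y ∉ L from key _ w rfl hw
    intro n
    induction n using Nat.strong_induction_on with
    | _ n ih =>
      intro y hy hyL
      by_cases hn : IsPrimePow n
      · obtain ⟨q, k, hq, -, rfl⟩ := (isPrimePow_nat_iff n).1 hn
        exact ⟨q, k, y, hq, orderOf_dvd_iff_pow_eq_one.1 hy.dvd, hyL⟩
      have hn0 : 0 < n := hy ▸ orderOf_pos y
      have hn1 : n ≠ 1 := fun e => hyL (by
        rw [orderOf_eq_one_iff.1 (hy.trans e)]; exact L.one_mem)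
      obtain ⟨q, hq, hqn⟩ := Nat.exists_prime_and_dvd hn1
      set a := q ^ n.factorization q with ha
      set b := n / q ^ n.factorization q with hb
      have hab : a * b = n := Nat.ordProj_mul_ordCompl_eq_self n q
      have hcop : Nat.Coprime a b :=
        Nat.Coprime.pow_left _ (Nat.coprime_ordCompl hq hn0.ne')
      have ha1 : 1 < a := Nat.one_lt_pow (by
        have := (Nat.Prime.factorization_pos_of_dvd hq hn0.ne' hqn); omega) hq.one_lt
      have hb1 : 1 < b := by
        by_contra hb1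
        refine hn ((isPrimePow_nat_iff n).2 ⟨q, n.factorization q, hq,
          hq.factorization_pos_of_dvd hn0.ne' hqn, ?_⟩)
        rcases Nat.eq_zero_or_pos b with e | e
        · rw [e, mul_zero] at hab; omega
        · rw [show b = 1 by omega, mul_one] at hab; exact hab
      by_cases hya : y ^ b ∈ L
      · refine ih b (by nlinarith) (y ^ a) ?_ fun hyb => hyL ?_
        · rw [orderOf_pow' y (by omega), hy, ← hab, Nat.gcd_eq_right (dvd_mul_right a b),
            Nat.mul_div_cancel_left _ (by omega)]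
        · have hgcd := Nat.gcd_eq_gcd_ab a b
          rw [hcop.gcd_eq_one, Nat.cast_one] at hgcd
          have : y = (y ^ a) ^ Nat.gcdA a b * (y ^ b) ^ Nat.gcdB a b := by
            rw [← zpow_natCast, ← zpow_natCast, ← zpow_mul, ← zpow_mul, ← zpow_add, ← hgcd,
              zpow_one]
          rw [this]
          exact L.mul_mem (L.zpow_mem hyb _) (L.zpow_mem hya _)
      · refine ih a (by nlinarith) (y ^ b) ?_ hya
        rw [orderOf_pow' y (by omega), hy, ← hab, Nat.gcd_eq_right (dvd_mul_left b a),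
          Nat.mul_div_cancel _ (by omega)]
  haveI : Fact q.Prime := ⟨hq⟩
  have hLy : L ⊔ zpowers y = ⊤ := hL.2 _ (lt_of_le_of_ne le_sup_left fun e =>
    hy (e ▸ mem_sup_right (mem_zpowers y)))
  -- `q`-elements of `L` commute with `y`
  have hqL : ∀ l ∈ L, (∃ j, l ^ q ^ j = 1) → Commute y l := by
    intro l hl hlj
    let Lq : Subgroup ↥H :=
      { carrier := {a | a ∈ L ∧ ∃ j : ℕ, a ^ q ^ j = 1}
        one_mem' := ⟨L.one_mem, 0, one_pow _⟩
        mul_mem' := by
          rintro a b ⟨ha, i, hi⟩ ⟨hb, j, hj⟩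
          refine ⟨L.mul_mem ha hb, i + j, ?_⟩
          rw [(show Commute a b from comm_iff.1 hLab a ha b hb).mul_pow, pow_add, pow_mul, hi,
            one_pow, mul_comm, pow_mul, hj, one_pow, one_mul]
        inv_mem' := by
          rintro a ⟨ha, i, hi⟩
          exact ⟨L.inv_mem ha, i, by rw [inv_pow, hi, inv_one]⟩ }
    have hLqp : IsPGroup q ↥Lq := fun a => by
      obtain ⟨j, hj⟩ := a.2.2
      exact ⟨j, Subtype.ext hj⟩
    haveI : Lq.Normal := ⟨fun a ha g => ⟨hLn.conj_mem a ha.1 g, by
      obtain ⟨j, hj⟩ := ha.2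
      exact ⟨j, by rw [conj_pow, hj]; group⟩⟩⟩
    have hyp : IsPGroup q ↥(zpowers y) := by
      obtain ⟨j, -, hj⟩ := (Nat.dvd_prime_pow hq).1 (orderOf_dvd_of_pow_eq_one hyk)
      exact IsPGroup.of_card (n := j) (by rw [Nat.card_zpowers, hj])
    obtain ⟨T, hT⟩ := (hLqp.to_sup_of_normal_left hyp).exists_le_sylow
    exact comm_iff.1 (hsylH q T) y (hT (mem_sup_right (mem_zpowers y))) l
      (hT (mem_sup_left ⟨hl, hlj⟩))
  -- `y` does not centralise the derived subgroup
  set X := commutator ↥H ⊔ zpowers y with hXdef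
  haveI hXn : X.Normal := by
    refine ⟨fun a ha g => ?_⟩
    have := X.mul_mem (mem_sup_left (commutator_mem_commutator (mem_top g) (mem_top a))) ha
    rwa [commutatorElement_def, inv_mul_cancel_right] at this
  have hXtop : X = ⊤ := by
    by_contra hne
    have hXab : IsMulCommutative ↥X := by
      by_contra hc
      exact hne (hnormal X hXn hc)
    -- then `y` is central
    have hyc : ∀ l ∈ L, Commute y l := by
      intro l hl
      set c := y * l * y⁻¹ * l⁻¹ with hc
      have hcD : c ∈ commutator ↥H := commutator_mem_commutator (mem_top y) (mem_top l)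
      have hcy : Commute y c :=
        comm_iff.1 hXab y (mem_sup_right (mem_zpowers y)) c (mem_sup_left hcD)
      have hiter : ∀ i : ℕ, y ^ i * l * (y ^ i)⁻¹ = c ^ i * l := by
        intro i
        induction i with
        | zero => simp
        | succ i ihi =>
          calc y ^ (i + 1) * l * (y ^ (i + 1))⁻¹
              = y * (y ^ i * l * (y ^ i)⁻¹) * y⁻¹ := by rw [pow_succ' y]; group
            _ = y * c ^ i * (l * y⁻¹) := by rw [ihi]; group
            _ = c ^ i * y * (l * y⁻¹) := by rw [(hcy.pow_right i).eq]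
            _ = c ^ i * (y * l * y⁻¹ * l⁻¹) * l := by group
            _ = c ^ (i + 1) * l := by rw [← hc, ← pow_succ]
      have hcq : c ^ q ^ k = 1 := by
        have := hiter (q ^ k)
        rw [hyk, one_mul, inv_one, mul_one] at this
        exact mul_eq_right.1 this.symm
      -- split `l`
      have hord := orderOf_pos l
      set a := q ^ (orderOf l).factorization q with ha
      set b := orderOf l / q ^ (orderOf l).factorization q with hb
      have hab : a * b = orderOf l := Nat.ordProj_mul_ordCompl_eq_self (orderOf l) q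
      have h1 : Commute y (l ^ b) := hqL _ (L.pow_mem hl b) ⟨(orderOf l).factorization q, by
        rw [← pow_mul, mul_comm, hab, pow_orderOf_eq_one]⟩
      have h2 : Commute y (l ^ a) := by
        have hcl : Commute c l := comm_iff.1 hLab c (hDL hcD) l hl
        have e : y * l ^ a * y⁻¹ = c ^ a * l ^ a := by
          rw [← conj_pow, show y * l * y⁻¹ = c * l by rw [hc]; group, hcl.mul_pow]
        have hla : (l ^ a) ^ b = 1 := by rw [← pow_mul, hab, pow_orderOf_eq_one]
        have hca : (c ^ a) ^ b = 1 := by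
          have := congrArg (· ^ b) e
          simp only [conj_pow, hla, mul_one, mul_inv_cancel, (hcl.pow_pow a a).mul_pow] at this
          exact this.symm
        have hcop : Nat.Coprime (q ^ k) b :=
          Nat.Coprime.pow_left _ (Nat.coprime_ordCompl hq hord.ne')
        have : c ^ a = 1 := orderOf_eq_one_iff.1 (Nat.eq_one_of_dvd_coprimes hcop
          (orderOf_dvd_of_pow_eq_one (by rw [← pow_mul, mul_comm, pow_mul, hcq, one_pow]))
          (orderOf_dvd_of_pow_eq_one hca))
        rw [this, one_mul] at e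
        exact mul_inv_eq_iff_eq_mul.1 e
      have hgcd := Nat.gcd_eq_gcd_ab a b
      rw [(Nat.Coprime.pow_left _ (Nat.coprime_ordCompl hq hord.ne') : Nat.Coprime a b).gcd_eq_one,
        Nat.cast_one] at hgcd
      have : l = (l ^ a) ^ Nat.gcdA a b * (l ^ b) ^ Nat.gcdB a b := by
        rw [← zpow_natCast, ← zpow_natCast, ← zpow_mul, ← zpow_mul, ← zpow_add, ← hgcd, zpow_one]
      rw [this]
      exact (h2.zpow_right _).mul_right (h1.zpow_right _)
    refine hnab ⟨⟨fun a b => ?_⟩⟩
    have hcl : L ⊔ zpowers y ≤ centralizer ({y} : Set ↥H) :=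
      sup_le (fun l hl => mem_centralizer_singleton_iff.2 (hyc l hl).eq.symm)
        (zpowers_le.2 (mem_centralizer_singleton_iff.2 rfl))
    rw [hLy] at hcl
    have hyall : ∀ g : ↥H, g * y = y * g := fun g =>
      mem_centralizer_singleton_iff.1 (hcl (mem_top g))
    have hall : ∀ g : ↥H, ∃ l ∈ L, ∃ v ∈ zpowers y, g = l * v := by
      intro g
      have hg : g ∈ (↑(L ⊔ zpowers y) : Set ↥H) := by rw [hLy]; exact mem_top g
      rw [normal_mul] at hg
      obtain ⟨l, hl, v, hv, rfl⟩ := Set.mem_mul.1 hg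
      exact ⟨l, hl, v, hv, rfl⟩
    obtain ⟨l, hl, v, hv, rfl⟩ := hall a
    obtain ⟨l', hl', v', hv', rfl⟩ := hall b
    obtain ⟨i, rfl⟩ := mem_zpowers_iff.1 hv
    obtain ⟨j, rfl⟩ := mem_zpowers_iff.1 hv'
    have c1 : ∀ g : ↥H, Commute g y := hyall
    have c2 : Commute l l' := comm_iff.1 hLab l hl l' hl'
    exact ((c2.mul_right ((c1 l).zpow_right j)).mul_left
      (((c1 l').zpow_right i).symm.mul_right (Commute.zpow_zpow_self y i j))).eq
  -- the derived subgroup has order prime to `q`
  have hDq : ∀ d ∈ commutator ↥H, (∃ j, d ^ q ^ j = 1) → d = 1 := by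
    intro d hd hdj
    by_contra hd1
    obtain ⟨j, hj⟩ := hdj
    obtain ⟨i, hi, hid⟩ := (Nat.dvd_prime_pow hq).1 (orderOf_dvd_of_pow_eq_one hj)
    have hi0 : i ≠ 0 := fun e => hd1 (orderOf_eq_one_iff.1 (by rw [hid, e, pow_zero]))
    have hd' : orderOf (d ^ q ^ (i - 1)) = q := by
      rw [orderOf_pow' d (pow_ne_zero _ hq.ne_zero), hid,
        Nat.gcd_eq_right (pow_dvd_pow q (Nat.sub_le i 1)), Nat.pow_div (Nat.sub_le i 1) hq.pos,
        show i - (i - 1) = 1 by omega, pow_one]
    obtain ⟨T⟩ := (inferInstance : Nonempty (Sylow q ↥H))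
    refine not_mem_commutator T (hsylH q T) hd' (fun g => ?_) ((commutator ↥H).pow_mem hd _)
    have hyd : Commute y (d ^ q ^ (i - 1)) := (hqL d (hDL hd) ⟨j, hj⟩).pow_right _
    have hcl : L ⊔ zpowers y ≤ centralizer ({d ^ q ^ (i - 1)} : Set ↥H) :=
      sup_le (fun l hl => mem_centralizer_singleton_iff.2
          (comm_iff.1 hLab l hl _ (L.pow_mem (hDL hd) _)))
        (zpowers_le.2 (mem_centralizer_singleton_iff.2 hyd.eq))
    rw [hLy] at hcl
    exact mem_centralizer_singleton_iff.1 (hcl (mem_top g))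
  have hdec : ∀ g : ↥H, ∃ d ∈ commutator ↥H, ∃ i : ℤ, g = d * y ^ i := by
    intro g
    have hg : g ∈ (↑(commutator ↥H ⊔ zpowers y) : Set ↥H) := by rw [← hXdef, hXtop]; exact mem_top g
    rw [normal_mul] at hg
    obtain ⟨d, hd, v, hv, rfl⟩ := Set.mem_mul.1 hg
    obtain ⟨i, rfl⟩ := mem_zpowers_iff.1 hv
    exact ⟨d, hd, i, rfl⟩
  have hqel : ∀ g : ↥H, Commute g y → (∃ j, g ^ q ^ j = 1) → g ∈ zpowers y := by
    intro g hgy hgj
    obtain ⟨j, hj⟩ := hgj
    obtain ⟨d, hd, i, rfl⟩ := hdec g
    have hdy : Commute d y := by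
      have := hgy.mul_left ((Commute.refl y).zpow_left (-i))
      rwa [mul_assoc, ← zpow_add, add_neg_cancel, zpow_zero, mul_one] at this
    have hd1 : d = 1 := hDq d hd ⟨j + k, by
      have e : d = (d * y ^ i) * (y ^ i)⁻¹ := by group
      have hc' : Commute (d * y ^ i) (y ^ i)⁻¹ := (hgy.zpow_right i).inv_right
      rw [e, hc'.mul_pow, pow_add, pow_mul (d * y ^ i), hj, one_pow, one_mul, inv_pow, mul_comm,
        pow_mul, ← zpow_natCast (y ^ i) (q ^ k), ← zpow_mul, mul_comm i, zpow_mul, zpow_natCast,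
        hyk, one_zpow, one_pow, inv_one]⟩
    rw [hd1, one_mul]
    exact zpow_mem (mem_zpowers y) i
  -- hence `q = r` and the Sylow `r`-subgroups of `G` are cyclic
  have hqr : q = r := by
    by_contra hne
    obtain ⟨d, hd, i, hdi⟩ := hdec z
    have hzy : Commute z (y ^ i) := (hzc _).symm
    have : z ^ q ^ k ∈ commutator ↥H := by
      have hc' : Commute d (y ^ i) := by
        have := hzy.mul_left ((Commute.refl (y ^ i)).inv_left)
        rwa [show z * (y ^ i)⁻¹ = d by rw [hdi]; group] at this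
      rw [hdi, hc'.mul_pow, ← zpow_natCast (y ^ i) (q ^ k), ← zpow_mul, mul_comm i, zpow_mul,
        zpow_natCast, hyk, one_zpow, mul_one]
      exact (commutator ↥H).pow_mem hd _
    have hz' : zpowers (z ^ q ^ k) = zpowers z :=
      eq_of_le_of_card_ge (zpowers_le.2 (pow_mem (mem_zpowers z) _)) (by
        rw [Nat.card_zpowers, Nat.card_zpowers, Nat.Coprime.orderOf_pow (by
          rw [hzo]; exact ((Nat.coprime_primes hr hq).2 (Ne.symm hne)).pow_right k)])
    exact hzD (zpowers_le.2 this (hz'.symm ▸ mem_zpowers z))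
  subst hqr
  have hzy : z ∈ zpowers y := hqel z (hzc y).symm ⟨1, by
    rw [pow_one, ← hzo, pow_orderOf_eq_one]⟩
  have hyp : IsPGroup q ↥(zpowers (y : G)) := by
    obtain ⟨j, -, hj⟩ := (Nat.dvd_prime_pow hq).1 (orderOf_dvd_of_pow_eq_one hyk)
    exact IsPGroup.of_card (n := j) (by rw [Nat.card_zpowers, Subgroup.orderOf_coe, hj])
  obtain ⟨Y, hY⟩ := hyp.exists_le_sylow
  have hyY : (y : G) ∈ (Y : Subgroup G) := hY (mem_zpowers _)
  have hxY : x ∈ (Y : Subgroup G) := by
    obtain ⟨i, hi⟩ := mem_zpowers_iff.1 hzy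
    rw [show x = ((z : ↥H) : G) from rfl, ← hi, Subgroup.coe_zpow]
    exact zpow_mem hyY i
  have hYab := comm_iff.1 (h.sylow_comm hG Y)
  have hYH : (Y : Subgroup G) ≤ H := fun w hw =>
    mem_centralizer_singleton_iff.2 (hYab w hw x hxY)
  have hYy : ∀ w (hw : w ∈ (Y : Subgroup G)), (⟨w, hYH hw⟩ : ↥H) ∈ zpowers y := by
    intro w hw
    obtain ⟨j, hj⟩ := Y.2 ⟨w, hw⟩
    exact hqel _ (Subtype.ext (hYab w hw (y : G) hyY))
      ⟨j, Subtype.ext (congrArg Subtype.val hj :)⟩
  refine not_complement hG (hx ▸ orderOf_dvd_natCard x)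
    (Fusion.hasNormalPComplement_of_normalizer_le_centralizer Y fun n hn => ?_)
  -- `n` normalises `H`, hence lies in it
  have hnH : n ∈ H := by
    refine h H hnab ▸ ?_
    have hxn : n * x * n⁻¹ ∈ zpowers x := by
      have hw : n * x * n⁻¹ ∈ (Y : Subgroup G) := (mem_normalizer_iff.1 hn x).1 hxY
      set v : ↥H := ⟨n * x * n⁻¹, hYH hw⟩ with hv
      have hsub : zpowers v = zpowers z := by
        have hvy : zpowers v ≤ zpowers y := zpowers_le.2 (hYy _ hw)
        have hzy' : zpowers z ≤ zpowers y := zpowers_le.2 hzy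
        have hcard : Nat.card ↥(zpowers v) = Nat.card ↥(zpowers z) := by
          rw [Nat.card_zpowers, Nat.card_zpowers, hzo, hv, Subgroup.orderOf_mk,
            ← hx]
          exact (MulEquiv.orderOf_eq (MulAut.conj n) x)
        have e1 := Subgroup.zpowers_le.2 (hYy _ hw)
        exact cyclic_unique hvy hzy' hcard
      obtain ⟨i, hi⟩ := mem_zpowers_iff.1 (hsub ▸ mem_zpowers v)
      exact mem_zpowers_iff.2 ⟨i, by
        have := congrArg Subtype.val hi
        rwa [Subgroup.coe_zpow] at this⟩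
    refine mem_normalizer_iff.2 fun w => ?_
    obtain ⟨i, hi⟩ := mem_zpowers_iff.1 hxn
    have hgen : ∀ w : G, Commute w (n * x * n⁻¹) → Commute w x := by
      intro w hw
      have hz' : zpowers (n * x * n⁻¹) = zpowers x := eq_of_le_of_card_ge
        (zpowers_le.2 hxn) (by
          rw [Nat.card_zpowers, Nat.card_zpowers]
          exact (MulEquiv.orderOf_eq (MulAut.conj n) x).ge)
      obtain ⟨j, hj⟩ := mem_zpowers_iff.1 (hz'.symm ▸ mem_zpowers x)
      rw [← hj]; exact hw.zpow_right j
    constructor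
    · intro hw
      refine mem_centralizer_singleton_iff.2 (hgen _ ?_)
      exact (show Commute w x from mem_centralizer_singleton_iff.1 hw).map (MulAut.conj n).toMonoidHom
    · intro hw
      have h1 : Commute (n * w * n⁻¹) (n * x * n⁻¹) := by
        rw [← hi]
        exact (show Commute (n * w * n⁻¹) x from mem_centralizer_singleton_iff.1 hw).zpow_right i
      have h2 := h1.map (MulAut.conj n⁻¹).toMonoidHom
      refine mem_centralizer_singleton_iff.2 ?_
      simpa [mul_assoc] using h2.eq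
  -- `n` centralises `y`
  set m' : ↥H := ⟨n, hnH⟩ with hm'
  have hyy : m' * y * m'⁻¹ * y⁻¹ = 1 := by
    have h1 : m' * y * m'⁻¹ * y⁻¹ ∈ commutator ↥H :=
      commutator_mem_commutator (mem_top m') (mem_top y)
    have h2 : m' * y * m'⁻¹ ∈ zpowers y :=
      hYy (n * (y : G) * n⁻¹) ((mem_normalizer_iff.1 hn _).1 hyY)
    have h3 := mul_mem h2 (inv_mem (mem_zpowers y))
    obtain ⟨i, hi⟩ := mem_zpowers_iff.1 h3
    refine hDq _ h1 ⟨k, ?_⟩
    rw [← hi, ← zpow_natCast (y ^ i) (q ^ k), ← zpow_mul, mul_comm i, zpow_mul, zpow_natCast, hyk,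
      one_zpow]
  have hny : Commute n (y : G) :=
    congrArg Subtype.val (mul_inv_eq_iff_eq_mul.1 (mul_inv_eq_one.1 hyy))
  refine mem_centralizer_iff.2 fun w hw => ?_
  obtain ⟨i, hi⟩ := mem_zpowers_iff.1 (hYy w hw)
  rw [show w = (y : G) ^ i by rw [← Subgroup.coe_zpow, hi]]
  exact ((hny.zpow_right i).symm).eq

end Cfsg.Agent.H65.SelfNorm
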