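import Cfsg.Agent.Fusion.Frobenius
import Mathlib.GroupTheory.Nilpotent
import Mathlib.GroupTheory.SpecificGroups.Cyclic

/-!
# Groups in which every nonabelian subgroup is self-normalising: the Sylow subgroups
-/

set_option autoImplicit false
set_option linter.unusedSectionVars false
set_option linter.style.haveILetI false

namespace Cfsg.Agent.H65.SelfNorm

open Subgroup

universe u

/-- Every nonabelian subgroup is self-normalising. -/
def SN (G : Type u) [Group G] : Prop :=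
  ∀ H : Subgroup G, ¬ IsMulCommutative ↥H → normalizer (H : Set G) = H

variable {G : Type u} [Group G] [Finite G]

omit [Finite G] in
theorem comm_iff {H : Subgroup G} :
    IsMulCommutative ↥H ↔ ∀ a ∈ H, ∀ b ∈ H, a * b = b * a :=
  ⟨fun h a ha b hb => congrArg Subtype.val (h.is_comm.comm ⟨a, ha⟩ ⟨b, hb⟩),
    fun h => ⟨⟨fun a b => Subtype.ext (h a a.2 b b.2)⟩⟩⟩

omit [Finite G] in
/-- A nonabelian subgroup normal in `M` contains `M`. -/
theorem SN.le_of_normal (h : SN G) {X M : Subgroup G} (hM : M ≤ normalizer (X : Set G))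
    (hX : ¬ IsMulCommutative ↥X) : M ≤ X := h X hX ▸ hM

/-- A simple group with order divisible by `p` has no normal `p`-complement, unless abelian. -/
theorem not_complement [IsSimpleGroup G] (hG : ¬ IsMulCommutative G) {p : ℕ} [Fact p.Prime]
    (hp : p ∣ Nat.card G) : ¬ Cfsg.HasNormalPComplement p G := by
  intro hN
  obtain ⟨P⟩ := (inferInstance : Nonempty (Sylow p G))
  obtain ⟨N, hn, hc⟩ := (Fusion.hasNormalPComplement_iff_exists P).1 hN
  rcases hn.eq_bot_or_eq_top with rfl | rfl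
  · have hP : (P : Subgroup G) = ⊤ := Subgroup.isComplement'_bot_left.1 hc
    have hpg : IsPGroup p G := P.2.of_equiv ((MulEquiv.subgroupCongr hP).trans Subgroup.topEquiv)
    haveI : Nontrivial G := IsSimpleGroup.toNontrivial
    haveI := hpg.center_nontrivial
    rcases Subgroup.Normal.eq_bot_or_eq_top (inferInstance : (center G).Normal) with e | e
    · exact (Subgroup.nontrivial_iff_ne_bot _).1 inferInstance e
    · exact hG ⟨⟨fun a b => (Subgroup.mem_center_iff.1 (e ▸ mem_top a) b).symm⟩⟩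
  · exact Fusion.not_dvd_card_of_isComplement' P hc (by rwa [Subgroup.card_top])

/-- Proper subgroups of a Sylow subgroup are abelian. -/
theorem SN.proper_comm (h : SN G) {p : ℕ} [Fact p.Prime] (P : Sylow p G) {X : Subgroup G}
    (hX : X < (P : Subgroup G)) : IsMulCommutative ↥X := by
  by_contra hc
  haveI : Group.IsNilpotent ↥(P : Subgroup G) := P.2.isNilpotent
  have hlt : X.subgroupOf (P : Subgroup G) < ⊤ := lt_of_le_of_ne le_top fun e =>
    hX.not_ge (Subgroup.subgroupOf_eq_top.1 e)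
  have h2 := Group.normalizerCondition_of_isNilpotent (G := ↥(P : Subgroup G)) _ hlt
  obtain ⟨y, hy, hyX⟩ := SetLike.exists_of_lt h2
  refine hyX (Subgroup.mem_subgroupOf.2 (h X hc ▸ ?_))
  refine Subgroup.mem_normalizer_iff.2 fun z => ⟨fun hz => ?_, fun hz => ?_⟩
  · exact (Subgroup.mem_normalizer_iff.1 hy ⟨z, hX.le hz⟩).1 hz
  · have hzP : z ∈ (P : Subgroup G) := by
      have := (P : Subgroup G).mul_mem ((P : Subgroup G).mul_mem
        ((P : Subgroup G).inv_mem y.2) (hX.le hz)) y.2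
      simpa [mul_assoc] using this
    exact (Subgroup.mem_normalizer_iff.1 hy ⟨z, hzP⟩).2 hz

/-- The Sylow subgroups are abelian. -/
theorem SN.sylow_comm [IsSimpleGroup G] (hG : ¬ IsMulCommutative G) (h : SN G) {p : ℕ}
    [Fact p.Prime] (P : Sylow p G) : IsMulCommutative ↥(P : Subgroup G) := by
  by_contra hP
  have hpdvd : p ∣ Nat.card G := by
    by_contra hd
    refine hP (comm_iff.2 fun a ha b _ => ?_)
    have h1 := orderOf_dvd_natCard a
    obtain ⟨j, hj⟩ := P.2 ⟨a, ha⟩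
    have h2 : orderOf a ∣ p ^ j := orderOf_dvd_of_pow_eq_one (congrArg Subtype.val hj)
    have : a = 1 := orderOf_eq_one_iff.1 (Nat.eq_one_of_dvd_coprimes
      (((Fact.out : p.Prime).coprime_iff_not_dvd.2 hd).pow_left j) h2 h1)
    rw [this, one_mul, mul_one]
  refine not_complement hG hpdvd ((Fusion.frobenius_criterion P).2 fun Q hQP g hg hgp => ?_)
  by_contra hgC
  have hQp : IsPGroup p ↥Q := P.2.to_le hQP
  -- `Q` is abelian
  have hQab : IsMulCommutative ↥Q := by
    by_contra hQ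
    have hgQ : g ∈ Q := h Q hQ ▸ hg
    obtain ⟨j, hj⟩ := hQp ⟨g, hgQ⟩
    have : g = 1 := orderOf_eq_one_iff.1 (Nat.eq_one_of_dvd_coprimes
      (hgp.symm.pow_left j) (orderOf_dvd_of_pow_eq_one (congrArg Subtype.val hj)) dvd_rfl)
    exact hgC (this ▸ one_mem _)
  set C := centralizer (Q : Set G) with hC
  have hQC : Q ≤ C := fun a ha => mem_centralizer_iff.2 fun b hb => comm_iff.1 hQab b hb a ha
  have hconjC : ∀ n ∈ normalizer (Q : Set G), ∀ z ∈ C, n * z * n⁻¹ ∈ C := by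
    intro n hn z hz
    refine mem_centralizer_iff.2 fun a ha => ?_
    have ha' : n⁻¹ * a * n ∈ Q := by
      have := (mem_normalizer_iff.1 (inv_mem hn) a).1 ha
      rwa [inv_inv] at this
    have := mem_centralizer_iff.1 hz _ ha'
    calc a * (n * z * n⁻¹) = n * ((n⁻¹ * a * n) * z) * n⁻¹ := by group
      _ = n * (z * (n⁻¹ * a * n)) * n⁻¹ := by rw [this]
      _ = _ := by group
  have hCN : normalizer (Q : Set G) ≤ normalizer (C : Set G) := fun n hn => by
    refine mem_normalizer_iff.2 fun z => ⟨hconjC n hn z, fun hz => ?_⟩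
    have := hconjC n⁻¹ (inv_mem hn) _ hz
    simpa [mul_assoc] using this
  have hCab : IsMulCommutative ↥C := by
    by_contra hc
    exact hgC (h.le_of_normal hCN hc hg)
  -- the Sylow subgroup of `C`
  let R : Subgroup G :=
    { carrier := {z | z ∈ C ∧ ∃ j : ℕ, z ^ p ^ j = 1}
      one_mem' := ⟨C.one_mem, 0, one_pow _⟩
      mul_mem' := by
        rintro a b ⟨ha, i, hi⟩ ⟨hb, j, hj⟩
        refine ⟨C.mul_mem ha hb, i + j, ?_⟩
        rw [(show Commute a b from comm_iff.1 hCab a ha b hb).mul_pow, pow_add, pow_mul, hi, one_pow,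
          mul_comm, pow_mul, hj, one_pow, one_mul]
      inv_mem' := by
        rintro a ⟨ha, i, hi⟩
        exact ⟨C.inv_mem ha, i, by rw [inv_pow, hi, inv_one]⟩ }
  have hmemR : ∀ {z}, z ∈ R ↔ z ∈ C ∧ ∃ j : ℕ, z ^ p ^ j = 1 := Iff.rfl
  have hRp : IsPGroup p ↥R := fun z => by
    obtain ⟨j, hj⟩ := (hmemR.1 z.2).2
    exact ⟨j, Subtype.ext hj⟩
  have hQR : Q ≤ R := fun z hz => by
    obtain ⟨j, hj⟩ := hQp ⟨z, hz⟩
    exact hmemR.2 ⟨hQC hz, j, congrArg Subtype.val hj⟩
  have hRab : IsMulCommutative ↥R :=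
    comm_iff.2 fun a ha b hb => comm_iff.1 hCab a (hmemR.1 ha).1 b (hmemR.1 hb).1
  have hgR : g ∈ normalizer (R : Set G) := by
    refine mem_normalizer_iff.2 fun z => ?_
    have : ∀ n ∈ normalizer (Q : Set G), ∀ z ∈ R, n * z * n⁻¹ ∈ R := by
      intro n hn z hz
      obtain ⟨hzC, j, hj⟩ := hmemR.1 hz
      exact hmemR.2 ⟨hconjC n hn z hzC, j, by rw [conj_pow, hj]; group⟩
    refine ⟨this g hg z, fun hz => ?_⟩
    have := this g⁻¹ (inv_mem hg) _ hz
    simpa [mul_assoc] using this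
  have hgCR : g ∉ centralizer (R : Set G) := fun hc =>
    hgC (centralizer_le (SetLike.coe_subset_coe.2 hQR) hc)
  obtain ⟨P', hRP'⟩ := hRp.exists_le_sylow
  have hP' : ¬ IsMulCommutative ↥(P' : Subgroup G) := by
    intro hc
    obtain ⟨k, hk⟩ := MulAction.exists_smul_eq G P' P
    refine hP ⟨⟨fun a b => ?_⟩⟩
    let e : ↥(P' : Subgroup G) ≃* ↥(P : Subgroup G) := (P'.equivSMul k).trans
      (MulEquiv.subgroupCongr (by rw [hk]))
    exact e.symm.injective (by rw [map_mul, map_mul]; exact hc.is_comm.comm _ _)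
  -- `P' ∩ C(R) = R`
  have hself : ∀ z ∈ (P' : Subgroup G), z ∈ centralizer (R : Set G) → z ∈ R := fun z hz hzc => by
    obtain ⟨j, hj⟩ := P'.2 ⟨z, hz⟩
    exact hmemR.2 ⟨centralizer_le (SetLike.coe_subset_coe.2 hQR) hzc, j, congrArg Subtype.val hj⟩
  have hgen : ∀ x ∈ (P' : Subgroup G), x ∉ R → R ⊔ zpowers x = (P' : Subgroup G) := by
    intro x hx hxR
    by_contra hne
    have hab := h.proper_comm P' (lt_of_le_of_ne (sup_le hRP' (zpowers_le.2 hx)) hne)
    exact hxR (hself x hx (mem_centralizer_iff.2 fun z hz =>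
      comm_iff.1 hab z (mem_sup_left hz) x (mem_sup_right (mem_zpowers x))))
  obtain ⟨x, hx, hxR⟩ : ∃ x ∈ (P' : Subgroup G), x ∉ R := by
    by_contra hcon
    push Not at hcon
    exact hP' (comm_iff.2 fun a ha b hb => comm_iff.1 hRab a (hcon a ha) b (hcon b hb))
  have hP'N : (P' : Subgroup G) ≤ normalizer (R : Set G) := by
    haveI : Group.IsNilpotent ↥(P' : Subgroup G) := P'.2.isNilpotent
    have hlt : R.subgroupOf (P' : Subgroup G) < ⊤ := lt_of_le_of_ne le_top fun e =>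
      hxR (Subgroup.subgroupOf_eq_top.1 e hx)
    obtain ⟨y, hy, hyR⟩ := SetLike.exists_of_lt
      (Group.normalizerCondition_of_isNilpotent (G := ↥(P' : Subgroup G)) _ hlt)
    rw [← hgen y y.2 (fun e => hyR (Subgroup.mem_subgroupOf.2 e))]
    refine sup_le le_normalizer (zpowers_le.2 (mem_normalizer_iff.2 fun z => ⟨fun hz => ?_, fun hz => ?_⟩))
    · exact (mem_normalizer_iff.1 hy ⟨z, hRP' hz⟩).1 hz
    · have hzP : z ∈ (P' : Subgroup G) := by
        have := (P' : Subgroup G).mul_mem ((P' : Subgroup G).mul_mem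
          ((P' : Subgroup G).inv_mem y.2) (hRP' hz)) y.2
        simpa [mul_assoc] using this
      exact (mem_normalizer_iff.1 hy ⟨z, hzP⟩).2 hz
  -- the quotient `N(R) / C(R)`
  let M := normalizer (R : Set G)
  let C₀ : Subgroup ↥M := (centralizer (R : Set G)).subgroupOf M
  haveI hC₀n : C₀.Normal := normal_subgroupOf_of_le_normalizer (fun n hn => by
    have key : ∀ n ∈ M, ∀ z ∈ centralizer (R : Set G), n * z * n⁻¹ ∈ centralizer (R : Set G) := by
      intro n hn z hz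
      refine mem_centralizer_iff.2 fun a ha => ?_
      have ha' : n⁻¹ * a * n ∈ R := by
        have := (mem_normalizer_iff.1 (inv_mem hn) a).1 ha
        rwa [inv_inv] at this
      calc a * (n * z * n⁻¹) = n * ((n⁻¹ * a * n) * z) * n⁻¹ := by group
        _ = n * (z * (n⁻¹ * a * n)) * n⁻¹ := by rw [mem_centralizer_iff.1 hz _ ha']
        _ = _ := by group
    refine mem_normalizer_iff.2 fun z => ⟨key n hn z, fun hz => ?_⟩
    have := key n⁻¹ (inv_mem hn) _ hz
    simpa [mul_assoc] using this)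
  let π := QuotientGroup.mk' C₀
  let P₀ : Sylow p ↥M := P'.subtype hP'N
  let Pb : Sylow p (↥M ⧸ C₀) := P₀.mapSurjective (QuotientGroup.mk'_surjective C₀)
  have hPb : (Pb : Subgroup (↥M ⧸ C₀)) = ((P' : Subgroup G).subgroupOf M).map π := by
    rw [Sylow.coe_mapSurjective]; rfl
  have hx' : π ⟨x, hP'N hx⟩ ∈ (Pb : Subgroup (↥M ⧸ C₀)) := by
    rw [hPb]; exact mem_map_of_mem π hx
  have hone : ∀ (a : G) (ha : a ∈ R), π ⟨a, le_normalizer ha⟩ = 1 := fun a ha =>
    (QuotientGroup.eq_one_iff (⟨a, le_normalizer ha⟩ : ↥M)).2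
      (show (⟨a, le_normalizer ha⟩ : ↥M) ∈ C₀ from
        mem_centralizer_iff.2 fun b hb => comm_iff.1 hRab b hb a ha)
  have hcycl : (Pb : Subgroup (↥M ⧸ C₀)) ≤ zpowers (π ⟨x, hP'N hx⟩) := by
    rw [hPb, map_le_iff_le_comap]
    intro z hz
    have hz' : (z : G) ∈ R ⊔ zpowers x := by rw [hgen x hx hxR]; exact hz
    have hle : R ⊔ zpowers x ≤ ((zpowers (π ⟨x, hP'N hx⟩)).comap π).map M.subtype := by
      refine sup_le (fun a ha => ⟨⟨a, le_normalizer ha⟩, ?_, rfl⟩)
        (zpowers_le.2 ⟨⟨x, hP'N hx⟩, mem_zpowers _, rfl⟩)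
      rw [SetLike.mem_coe, mem_comap, hone a ha]
      exact one_mem _
    obtain ⟨w, hw, hwz⟩ := hle hz'
    rwa [← Subtype.ext hwz]
  -- Burnside applies in the quotient
  let X := (((Pb : Subgroup (↥M ⧸ C₀))).comap π).map M.subtype
  have hXab : ¬ IsMulCommutative ↥X := by
    intro hc
    refine hP' (comm_iff.2 fun a ha b hb => comm_iff.1 hc a ?_ b ?_) <;>
      refine ⟨⟨_, hP'N ‹_›⟩, ?_, rfl⟩ <;>
      rw [SetLike.mem_coe, mem_comap, hPb] <;> exact mem_map_of_mem π ‹_›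
  have hburn : normalizer ((Pb : Subgroup (↥M ⧸ C₀)) : Set (↥M ⧸ C₀)) ≤
      centralizer ((Pb : Subgroup (↥M ⧸ C₀)) : Set (↥M ⧸ C₀)) := by
    intro z hz
    obtain ⟨n, rfl⟩ := QuotientGroup.mk'_surjective C₀ z
    have hnX : (n : G) ∈ X := by
      refine h X hXab ▸ mem_normalizer_iff.2 fun w => ⟨?_, ?_⟩
      · rintro ⟨v, hv, rfl⟩
        refine ⟨n * v * n⁻¹, ?_, rfl⟩
        rw [SetLike.mem_coe, mem_comap, map_mul, map_mul, map_inv]
        exact (mem_normalizer_iff.1 hz _).1 hv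
      · rintro ⟨v, hv, hvw⟩
        refine ⟨n⁻¹ * v * n, ?_, ?_⟩
        · rw [SetLike.mem_coe, mem_comap, map_mul, map_mul, map_inv]
          have := (mem_normalizer_iff.1 (inv_mem hz) (π v)).1 hv
          rwa [inv_inv] at this
        · rw [map_mul, map_mul, map_inv, hvw]
          simp [mul_assoc]
    obtain ⟨v, hv, hvn⟩ := hnX
    rw [← Subtype.ext hvn]
    refine mem_centralizer_iff.2 fun w hw => ?_
    obtain ⟨i, hi⟩ := mem_zpowers_iff.1 (hcycl hw)
    obtain ⟨j, hj⟩ := mem_zpowers_iff.1 (hcycl hv)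
    show w * π v = π v * w
    rw [← hi, ← hj, ← zpow_add, ← zpow_add, add_comm]
  obtain ⟨K, hKn, hKc⟩ := (Fusion.hasNormalPComplement_iff_exists Pb).1
    (Fusion.hasNormalPComplement_of_normalizer_le_centralizer Pb hburn)
  let Y := (K.comap π).map M.subtype
  by_cases hY : IsMulCommutative ↥Y
  · -- the quotient is a `p`-group
    have hK : K = ⊥ := by
      rw [eq_bot_iff_forall]
      intro z hz
      obtain ⟨n, rfl⟩ := QuotientGroup.mk'_surjective C₀ z
      refine (QuotientGroup.eq_one_iff n).2 (mem_centralizer_iff.2 fun a ha => ?_)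
      refine comm_iff.1 hY a ⟨⟨a, le_normalizer ha⟩, ?_, rfl⟩ n ⟨n, hz, rfl⟩
      rw [SetLike.mem_coe, mem_comap, hone a ha]
      exact one_mem _
    rw [hK] at hKc
    have htop : (Pb : Subgroup (↥M ⧸ C₀)) = ⊤ := Subgroup.isComplement'_bot_left.1 hKc
    obtain ⟨j, hj⟩ := Pb.2 ⟨π ⟨g, hgR⟩, htop ▸ mem_top _⟩
    suffices hgone : π ⟨g, hgR⟩ = 1 from
      hgCR (show (⟨g, hgR⟩ : ↥M) ∈ C₀ from (QuotientGroup.eq_one_iff _).1 hgone)
    refine orderOf_eq_one_iff.1 (Nat.eq_one_of_dvd_coprimes (hgp.symm.pow_left j)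
      (orderOf_dvd_of_pow_eq_one (congrArg Subtype.val hj)) ?_)
    refine (orderOf_map_dvd π ⟨g, hgR⟩).trans ?_
    rw [Subgroup.orderOf_mk]
  · have hMY : M ≤ Y := h.le_of_normal (fun n hn => mem_normalizer_iff.2 fun w => ⟨?_, ?_⟩) hY
    · have hK : K = ⊤ := eq_top_iff.2 fun z _ => by
        obtain ⟨n, rfl⟩ := QuotientGroup.mk'_surjective C₀ z
        obtain ⟨v, hv, hvn⟩ := hMY n.2
        rw [← Subtype.ext hvn]; exact hv
      rw [hK] at hKc
      have hbot : (Pb : Subgroup (↥M ⧸ C₀)) = ⊥ := Subgroup.isComplement'_top_left.1 hKc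
      rw [hbot, mem_bot] at hx'
      exact hxR (hself x hx ((QuotientGroup.eq_one_iff (⟨x, hP'N hx⟩ : ↥M)).1 hx'))
    · rintro ⟨v, hv, rfl⟩
      exact ⟨⟨n, hn⟩ * v * ⟨n, hn⟩⁻¹, (inferInstance : (K.comap π).Normal).conj_mem v hv _, rfl⟩
    · rintro ⟨v, hv, hvw⟩
      refine ⟨⟨n, hn⟩⁻¹ * v * ⟨n, hn⟩, ?_, ?_⟩
      · have := (inferInstance : (K.comap π).Normal).conj_mem v hv (⟨n, hn⟩ : ↥M)⁻¹
        rwa [inv_inv] at this
      · rw [map_mul, map_mul, map_inv, hvw]
        simp [mul_assoc]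

end Cfsg.Agent.H65.SelfNorm
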