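import Cfsg.Agent.H65.SelfNorm.Basic
import Cfsg.Agent.H65.CT.PSL
import Cfsg.Agent.S0799

/-!
# In `PSL(2, 2^n)` with `2^n - 1` prime every nonabelian subgroup is self-normalising
-/

set_option autoImplicit false
set_option linter.unusedSectionVars false
set_option linter.style.haveILetI false

open MulAction
open scoped Pointwise

namespace Cfsg.Agent.H65.SelfNorm

universe u

/-- Every nonabelian normal subgroup is the whole group. -/
def NN (K : Type u) [Group K] : Prop :=
  ∀ J : Subgroup K, J.Normal → ¬ IsMulCommutative ↥J → J = ⊤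

theorem NN.of_equiv {K : Type u} {L : Type*} [Group K] [Group L] (e : K ≃* L)
    (h : ∀ J : Subgroup L, J.Normal → ¬ IsMulCommutative ↥J → J = ⊤) : NN K := by
  intro J hJ hab
  have h1 := h (J.map e.toMonoidHom) (hJ.map _ e.surjective) fun hc => hab (comm_iff.2
    fun a ha b hb => e.injective (by
      rw [map_mul, map_mul]
      exact comm_iff.1 hc _ (Subgroup.mem_map_of_mem _ ha) _ (Subgroup.mem_map_of_mem _ hb)))
  rw [Subgroup.eq_top_iff']
  intro a
  obtain ⟨b, hb, hba⟩ : e a ∈ J.map e.toMonoidHom := h1 ▸ Subgroup.mem_top _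
  rwa [← e.injective hba]

theorem isMulCommutative_of_card_le_three {K : Type u} [Group K] [Finite K] {J : Subgroup K}
    (h : Nat.card ↥J ≤ 3) : IsMulCommutative ↥J := by
  rcases (show Nat.card ↥J = 1 ∨ Nat.card ↥J = 2 ∨ Nat.card ↥J = 3 by
    have : 0 < Nat.card ↥J := Nat.card_pos
    omega) with e | e | e
  · rw [Subgroup.eq_bot_of_card_eq J e]; infer_instance
  · haveI : Fact (Nat.Prime 2) := ⟨Nat.prime_two⟩
    haveI := isCyclic_of_prime_card e
    exact IsCyclic.isMulCommutative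
  · haveI : Fact (Nat.Prime 3) := ⟨Nat.prime_three⟩
    haveI := isCyclic_of_prime_card e
    exact IsCyclic.isMulCommutative

theorem NN.of_card_six {K : Type u} [Group K] [Finite K] (h : Nat.card K = 6) : NN K := by
  intro J _ hJ
  by_contra hne
  have hd : Nat.card ↥J ∣ 6 := h ▸ Subgroup.card_subgroup_dvd_card J
  have hlt : Nat.card ↥J ≠ 6 := fun e => hne (Subgroup.eq_top_of_card_eq J (e.trans h.symm))
  refine hJ (isMulCommutative_of_card_le_three ?_)
  have := Nat.le_of_dvd (by norm_num) hd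
  by_contra hc
  interval_cases hn : Nat.card ↥J <;> omega

theorem NN.dihedral {k : ℕ} (hk : Odd k) :
    ∀ J : Subgroup (DihedralGroup k), J.Normal → ¬ IsMulCommutative ↥J → J = ⊤ := by
  intro J hJ hab
  obtain ⟨i, hi⟩ : ∃ i, DihedralGroup.sr i ∈ J := by
    by_contra hcon
    push Not at hcon
    refine hab (comm_iff.2 fun a ha b hb => ?_)
    rcases a with a | a
    · rcases b with b | b
      · rw [DihedralGroup.r_mul_r, DihedralGroup.r_mul_r, add_comm]
      · exact absurd hb (hcon b)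
    · exact absurd ha (hcon a)
  have hr2 : DihedralGroup.r (1 + 1) ∈ J := by
    have h1 := J.mul_mem (J.inv_mem hi) (hJ.conj_mem _ hi (DihedralGroup.r 1))
    rw [DihedralGroup.inv_sr, DihedralGroup.r_mul_sr, DihedralGroup.inv_r,
      DihedralGroup.sr_mul_r, DihedralGroup.sr_mul_sr] at h1
    have h2 := J.inv_mem h1
    rw [DihedralGroup.inv_r] at h2
    convert h2 using 2
    ring
  obtain ⟨l, hl⟩ := hk
  have hr1 : DihedralGroup.r (1 : ZMod k) ∈ J := by
    have h1 := J.pow_mem hr2 (l + 1)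
    rw [DihedralGroup.r_pow] at h1
    convert h1 using 2
    have h0 : ((2 * l + 1 : ℕ) : ZMod k) = 0 := by rw [← hl]; exact ZMod.natCast_self k
    push_cast at h0 ⊢
    linear_combination -h0
  have hr : ∀ j : ZMod k, DihedralGroup.r j ∈ J := by
    intro j
    haveI : NeZero k := ⟨by omega⟩
    have := J.pow_mem hr1 j.val
    rwa [DihedralGroup.r_one_pow, ZMod.natCast_zmod_val] at this
  rw [Subgroup.eq_top_iff']
  rintro (j | j)
  · exact hr j
  · have := J.mul_mem hi (hr (j - i))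
    rwa [DihedralGroup.sr_mul_r, add_sub_cancel] at this

variable {G : Type u} [Group G] [Finite G]

/-- Nonabelian normal subgroups of subgroups of the Frobenius group `N` are improper. -/
theorem nn_of_le_N (D : CT.Setup G) (hm : D.m.Prime) (hA : D.m + 1 = Nat.card ↥D.A)
    {K : Subgroup G} (hK : K ≤ D.N) : NN ↥K := by
  classical
  haveI : Fact D.m.Prime := ⟨hm⟩
  intro J hJn hJ
  obtain ⟨j, hj, hjA⟩ : ∃ j ∈ J, (j : G) ∉ D.A := by
    by_contra hcon
    push Not at hcon
    exact hJ (comm_iff.2 fun a ha b hb => Subtype.ext (D.comm _ (hcon a ha) _ (hcon b hb)).eq)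
  obtain ⟨b, hbJ, hbA, hb1⟩ : ∃ b ∈ J, (b : G) ∈ D.A ∧ (b : G) ≠ 1 := by
    by_contra hcon
    push Not at hcon
    haveI hnA : (D.A.subgroupOf D.N).Normal := Subgroup.normal_in_normalizer
    let ι : ↥J →* ↥D.N ⧸ D.A.subgroupOf D.N :=
      (QuotientGroup.mk' _).comp ((Subgroup.inclusion hK).comp J.subtype)
    have hinj : Function.Injective ι := by
      rw [← MonoidHom.ker_eq_bot_iff, Subgroup.eq_bot_iff_forall]
      intro a ha
      have : (Subgroup.inclusion hK a.1 : ↥D.N) ∈ D.A.subgroupOf D.N :=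
        (QuotientGroup.eq_one_iff _).1 ha
      exact Subtype.ext (Subtype.ext (hcon a a.2 (Subgroup.mem_subgroupOf.1 this)))
    haveI : IsCyclic (↥D.N ⧸ D.A.subgroupOf D.N) := isCyclic_of_prime_card (p := D.m) rfl
    haveI := isCyclic_of_injective ι hinj
    exact hJ IsCyclic.isMulCommutative
  -- all of `N` acts on `b` as `J` does
  set J' := J.map K.subtype with hJ'
  have hsup : D.A ⊔ Subgroup.zpowers (j : G) = D.N := by
    refine le_antisymm (sup_le D.A_le (Subgroup.zpowers_le.2 (hK j.2))) ?_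
    intro n hn
    haveI hnA : (D.A.subgroupOf D.N).Normal := Subgroup.normal_in_normalizer
    set jb : ↥D.N ⧸ D.A.subgroupOf D.N := ((⟨(j : G), hK j.2⟩ : ↥D.N) : ↥D.N ⧸ D.A.subgroupOf D.N)
      with hjb
    have hjb1 : jb ≠ 1 := fun e => hjA (Subgroup.mem_subgroupOf.1
      ((QuotientGroup.eq_one_iff (N := D.A.subgroupOf D.N) (⟨(j : G), hK j.2⟩ : ↥D.N)).1 e))
    obtain ⟨i, hi⟩ := Subgroup.mem_zpowers_iff.1
      (mem_zpowers_of_prime_card (p := D.m) (g' := ((⟨n, hn⟩ : ↥D.N) : ↥D.N ⧸ D.A.subgroupOf D.N))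
        rfl hjb1)
    rw [hjb, ← QuotientGroup.mk_zpow, QuotientGroup.eq] at hi
    have hi' := Subgroup.mem_subgroupOf.1 hi
    rw [show n = (j : G) ^ i * (((j : G) ^ i)⁻¹ * n) by group]
    exact mul_mem (Subgroup.mem_sup_right (Subgroup.zpow_mem _ (Subgroup.mem_zpowers _) i))
      (Subgroup.mem_sup_left hi')
  have horb : ∀ n ∈ D.N, n * (b : G) * n⁻¹ ∈ J' := by
    intro n hn
    rw [← hsup] at hn
    have hn' : n ∈ (↑(D.A ⊔ Subgroup.zpowers (j : G)) : Set G) := hn
    rw [Subgroup.coe_mul_of_right_le_normalizer_left _ _ (Subgroup.zpowers_le.2 (hK j.2))] at hn'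
    obtain ⟨a, ha, v, hv, rfl⟩ := Set.mem_mul.1 hn'
    obtain ⟨i, rfl⟩ := Subgroup.mem_zpowers_iff.1 hv
    have hjb : (j : G) ^ i * b * ((j : G) ^ i)⁻¹ ∈ D.A := D.conj_mem (D.N.zpow_mem (hK j.2) i) hbA
    rw [show a * (j : G) ^ i * b * (a * (j : G) ^ i)⁻¹ =
      a * ((j : G) ^ i * b * ((j : G) ^ i)⁻¹) * a⁻¹ by group, (D.comm a ha _ hjb).eq,
      mul_inv_cancel_right]
    exact ⟨j ^ i * b * (j ^ i)⁻¹, J.mul_mem (J.mul_mem (J.zpow_mem hj i) hbJ)
      (J.inv_mem (J.zpow_mem hj i)), by simp⟩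
  have hAJ : D.A ≤ J' := by
    haveI := Fintype.ofFinite G
    haveI := Fintype.ofFinite ↥D.N
    let f : {g : ↥D.N // IsConj (⟨(b : G), D.A_le hbA⟩ : ↥D.N) g} → {a : ↥D.A // (a : G) ≠ 1} :=
      fun g => ⟨⟨g.1.1, by
        obtain ⟨n, hn⟩ := isConj_iff.1 g.2
        rw [← congrArg Subtype.val hn]; exact D.conj_mem n.2 hbA⟩, fun e => hb1 (by
        have h1 : g.1 = 1 := Subtype.ext e
        exact congrArg Subtype.val (isConj_one_left.1 (show IsConj (⟨(b : G), D.A_le hbA⟩ : ↥D.N) (1 : ↥D.N) by rw [← h1]; exact g.2)))⟩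
    have hinj : Function.Injective f := fun g g' e =>
      Subtype.ext (Subtype.ext (congrArg (fun a => ((a.1 : ↥D.A) : G)) e))
    have hc : Nat.card {a : ↥D.A // (a : G) ≠ 1} = D.m := by
      haveI := Fintype.ofFinite ↥D.A
      rw [Nat.card_congr (Equiv.subtypeEquivRight (p := fun a : ↥D.A => (a : G) ≠ 1) (q := fun a : ↥D.A => ¬ a = 1)
          fun a => not_congr ⟨fun e => Subtype.ext e, fun e => e ▸ rfl⟩),
        Nat.card_eq_fintype_card, Fintype.card_subtype_compl, Fintype.card_subtype_eq,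
        ← Nat.card_eq_fintype_card, ← hA, Nat.add_sub_cancel]
    have hbij := hinj.bijective_of_nat_card_le (by rw [hc, D.card_class hbA hb1])
    intro a ha
    by_cases ha1 : a = 1
    · rw [ha1]; exact one_mem _
    obtain ⟨g, hg⟩ := hbij.2 ⟨⟨a, ha⟩, ha1⟩
    obtain ⟨n, hn⟩ := isConj_iff.1 g.2
    rw [← show (g.1 : G) = a from congrArg (fun a : {a : ↥D.A // (a : G) ≠ 1} => ((a.1 : ↥D.A) : G)) hg,
      ← congrArg Subtype.val hn]
    exact horb n n.2
  have hNJ : D.N ≤ J' := by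
    rw [← hsup]
    exact sup_le hAJ (Subgroup.zpowers_le.2 ⟨j, hj, rfl⟩)
  rw [Subgroup.eq_top_iff']
  intro a
  obtain ⟨c, hc, hca⟩ := hNJ (hK a.2)
  rwa [← Subtype.ext hca]

/-- All nonabelian subgroups are self-normalising. -/
theorem sn_of_equiv [IsSimpleGroup G] (hG : ¬ IsMulCommutative G) (D : CT.Setup G)
    {F : Type} [Field F] [Fintype F] {n : ℕ} (hF : Fintype.card F = 2 ^ n) (hn : 2 ≤ n)
    (hp : (2 ^ n - 1).Prime) (hm : D.m + 1 = 2 ^ n) (hA : Nat.card ↥D.A = 2 ^ n)
    (e : G ≃* Matrix.ProjectiveSpecialLinearGroup (Fin 2) F) : SN G := by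
  classical
  haveI : Fact (Nat.Prime 2) := ⟨Nat.prime_two⟩
  haveI : CharP F 2 := charP_of_card_eq_prime_pow hF
  intro H hH
  set M := Subgroup.normalizer (H : Set G) with hM
  have hle : H ≤ M := Subgroup.le_normalizer
  haveI : (H.subgroupOf M).Normal := Subgroup.normal_in_normalizer
  have hMab : ¬ IsMulCommutative ↥(H.subgroupOf M) := fun hc => hH (comm_iff.2 fun a ha b hb =>
    congrArg Subtype.val (comm_iff.1 hc ⟨a, hle ha⟩ ha ⟨b, hle hb⟩ hb))
  suffices hNN : NN ↥M by
    exact le_antisymm (Subgroup.subgroupOf_eq_top.1 (hNN _ inferInstance hMab)) hle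
  have hmp : D.m.Prime := by rwa [show D.m = 2 ^ n - 1 by omega]
  have hmA : D.m + 1 = Nat.card ↥D.A := hm.trans hA.symm
  set M' := M.map e.toMonoidHom with hM'
  let eM : ↥M ≃* ↥M' := e.subgroupMap M
  have hodd : Odd (2 ^ n - 1) :=
    Nat.Even.sub_odd Nat.one_le_two_pow (Nat.even_pow.2 ⟨even_two, by omega⟩) odd_one
  have hg : Nat.gcd 2 (2 ^ n - 1) = 1 := Nat.coprime_two_left.2 hodd
  have hcardG : Nat.card G = 2 ^ n * ((2 ^ n) ^ 2 - 1) := by
    have h1 := Linear.card_PSL_two_mul (F := F)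
    rw [hF, hg, one_mul] at h1
    rw [Nat.card_congr e.toEquiv, h1]
  -- subgroups of the normaliser of a Sylow 2-subgroup
  have hborel : ∀ (g : G) (K : Subgroup G), (∀ k ∈ K, g * k * g⁻¹ ∈ D.N) → NN ↥K := by
    intro g K hK
    refine NN.of_equiv (((MulAut.conj g).subgroupMap K).trans (MulEquiv.refl _)) ?_
    exact nn_of_le_N D hmp hmA (fun x hx => by
      obtain ⟨k, hk, rfl⟩ := hx
      exact hK k hk)
  rcases S0799.result (F := F) hF 2 M' with ⟨k, hk, hcase⟩ | ⟨P, K, hKP, ⟨f⟩⟩ | ⟨⟨f⟩⟩ | ⟨⟨f⟩⟩ |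
    ⟨⟨f⟩⟩ | ⟨K, hK, hK', j, hj, hcase⟩
  · rcases hcase with ⟨hcyc, -⟩ | ⟨⟨f⟩⟩
    · refine NN.of_equiv eM fun J _ hJ => absurd ?_ hJ
      haveI := hcyc
      exact IsCyclic.isMulCommutative
    · refine NN.of_equiv (eM.trans f) (NN.dihedral ?_)
      rw [hg, Nat.div_one, Nat.div_one] at hk
      rcases hk with hk | hk
      · exact Odd.of_dvd_nat ((Nat.even_pow.2 ⟨even_two, by omega⟩).add_one) hk
      · exact hodd.of_dvd_nat hk
  · -- inside the normaliser of a Sylow subgroup
    have hPc : Nat.card ↥(P : Subgroup (Matrix.ProjectiveSpecialLinearGroup (Fin 2) F)) = 2 ^ n := by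
      have h1 := P.card_eq_multiplicity
      rw [← Nat.card_congr e.toEquiv, hcardG] at h1
      rw [h1]
      congr 1
      have hne : (2 ^ n) ^ 2 - 1 ≠ 0 := by
        have : 1 < (2 ^ n) ^ 2 := Nat.one_lt_pow (by norm_num) (Nat.one_lt_two_pow (by omega))
        omega
      rw [Nat.factorization_mul (by positivity) hne, Finsupp.add_apply,
        Nat.prime_two.factorization_pow, Finsupp.single_eq_same, Nat.factorization_eq_zero_of_not_dvd,
        add_zero]
      intro hd
      have h2 : 2 ∣ (2 ^ n) ^ 2 := dvd_pow (dvd_pow_self 2 (by omega)) two_ne_zero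
      have h3 := Nat.dvd_sub h2 hd
      rw [show (2 ^ n) ^ 2 - ((2 ^ n) ^ 2 - 1) = 1 by omega] at h3
      omega
    let S : Subgroup G := (P : Subgroup (Matrix.ProjectiveSpecialLinearGroup (Fin 2) F)).comap e.toMonoidHom
    have hS : Nat.card ↥S = 2 ^ n := by
      rw [← hPc]
      exact Nat.card_congr (e.toEquiv.subtypeEquiv fun a => Iff.rfl)
    obtain ⟨T, hT⟩ := (IsPGroup.of_card hS).exists_le_sylow
    obtain ⟨T₀, hT₀⟩ := (IsPGroup.of_card hA).exists_le_sylow
    obtain ⟨g, hg'⟩ := MulAction.exists_smul_eq G T T₀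
    have hTc : Nat.card ↥(T₀ : Subgroup G) = 2 ^ n := by
      refine le_antisymm ?_ (hA ▸ Subgroup.card_le_of_le hT₀)
      rw [T₀.card_eq_multiplicity, Nat.card_congr e.toEquiv, ← P.card_eq_multiplicity, hPc]
    have hT₀eq : (T₀ : Subgroup G) = D.A := (Subgroup.eq_of_le_of_card_ge hT₀ (by omega)).symm
    have hST : S = (T : Subgroup G) := Subgroup.eq_of_le_of_card_ge hT (by
      rw [hS, T.card_eq_multiplicity, ← T₀.card_eq_multiplicity, hTc])
    refine NN.of_equiv (eM.trans (f.trans (e.symm.subgroupMap K))) ?_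
    refine hborel g _ fun x hx => ?_
    obtain ⟨k, hk, rfl⟩ := hx
    have hkS : e.symm k ∈ Subgroup.normalizer (S : Set G) := by
      refine Subgroup.mem_normalizer_iff.2 fun w => ?_
      show e w ∈ (P : Subgroup (Matrix.ProjectiveSpecialLinearGroup (Fin 2) F)) ↔ e (e.symm k * w * (e.symm k)⁻¹) ∈ (P : Subgroup (Matrix.ProjectiveSpecialLinearGroup (Fin 2) F))
      rw [map_mul, map_mul, map_inv, MulEquiv.apply_symm_apply]
      exact Subgroup.mem_normalizer_iff.1 (hKP hk) (e w)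
    have hS' : ∀ w, w ∈ S ↔ g * w * g⁻¹ ∈ D.A := by
      intro w
      rw [← hT₀eq, ← hg', hST,
        show ((g • T : Sylow 2 G) : Subgroup G) = MulAut.conj g • (T : Subgroup G) from rfl,
        show g * w * g⁻¹ = MulAut.conj g • w from rfl, Subgroup.smul_mem_pointwise_smul_iff]
    refine Subgroup.mem_normalizer_iff.2 fun w => ?_
    have h1 := Subgroup.mem_normalizer_iff.1 hkS (g⁻¹ * w * g)
    rw [hS', hS'] at h1
    simpa [mul_assoc] using h1
  · -- `A₄` normalises a four subgroup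
    obtain ⟨V, hV, hV4, hVe⟩ : ∃ V : Subgroup ↥(alternatingGroup (Fin 4)), V.Normal ∧
        Nat.card ↥V = 4 ∧ ∀ v ∈ V, v * v = 1 := by
      refine ⟨⟨⟨⟨{σ | σ * σ = 1}, ?_⟩, ?_⟩, ?_⟩, ⟨fun v hv σ => ?_⟩, ?_, fun v hv => hv⟩
      · intro a b ha hb
        revert a b
        decide +kernel
      · decide +kernel
      · intro a ha
        revert a
        decide +kernel
      · show σ * v * σ⁻¹ * (σ * v * σ⁻¹) = 1
        rw [show σ * v * σ⁻¹ * (σ * v * σ⁻¹) = σ * (v * v) * σ⁻¹ by group,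
          show v * v = 1 from hv, mul_one, mul_inv_cancel]
      · show Nat.card {σ : ↥(alternatingGroup (Fin 4)) // σ * σ = 1} = 4
        rw [Nat.card_eq_fintype_card]
        decide +kernel
    set φ : ↥M ≃* ↥(alternatingGroup (Fin 4)) := eM.trans f with hφ
    let W : Subgroup G := (V.comap φ.toMonoidHom).map M.subtype
    have hWc : Nat.card ↥W = 4 := by
      rw [← hV4, Subgroup.card_map_of_injective M.subtype_injective]
      exact Nat.card_congr (φ.toEquiv.subtypeEquiv fun a => Iff.rfl)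
    obtain ⟨T, hT⟩ := (IsPGroup.of_card (p := 2) (n := 2) (G := ↥W) (by rw [hWc]; norm_num)).exists_le_sylow
    obtain ⟨T₀, hT₀⟩ := (IsPGroup.of_card hA).exists_le_sylow
    have hT₀eq : (T₀ : Subgroup G) = D.A := (Subgroup.eq_of_le_of_card_ge hT₀ (by
      rw [hA, T₀.card_eq_multiplicity, hcardG]
      refine Nat.pow_le_pow_right two_pos ?_
      have hne : (2 ^ n) ^ 2 - 1 ≠ 0 := by
        have : 1 < (2 ^ n) ^ 2 := Nat.one_lt_pow (by norm_num) (Nat.one_lt_two_pow (by omega))
        omega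
      rw [Nat.factorization_mul (by positivity) hne, Finsupp.add_apply,
        Nat.prime_two.factorization_pow, Finsupp.single_eq_same, Nat.factorization_eq_zero_of_not_dvd,
        add_zero]
      intro hd
      have h2 : 2 ∣ (2 ^ n) ^ 2 := dvd_pow (dvd_pow_self 2 (by omega)) two_ne_zero
      have h3 := Nat.dvd_sub h2 hd
      rw [show (2 ^ n) ^ 2 - ((2 ^ n) ^ 2 - 1) = 1 by omega] at h3
      omega)).symm
    obtain ⟨g, hg'⟩ := MulAction.exists_smul_eq G T T₀
    have hWA : ∀ w ∈ W, g * w * g⁻¹ ∈ D.A := by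
      intro w hw
      rw [← hT₀eq, ← hg']
      exact Subgroup.smul_mem_pointwise_smul w (MulAut.conj g) _ (hT hw)
    obtain ⟨w, hw, hw1⟩ : ∃ w ∈ W, w ≠ 1 := by
      by_contra hcon
      push Not at hcon
      rw [(Subgroup.eq_bot_iff_forall W).2 hcon, Subgroup.card_bot] at hWc
      omega
    refine hborel g M fun k hk => ?_
    refine D.ti (hWA w hw) (fun e1 => hw1 (conj_eq_one_iff.1 e1)) ?_
    rw [show g * k * g⁻¹ * (g * w * g⁻¹) * (g * k * g⁻¹)⁻¹ = g * (k * w * k⁻¹) * g⁻¹ by group]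
    obtain ⟨v, hv, rfl⟩ := hw
    refine hWA _ ⟨⟨k, hk⟩ * v * ⟨k, hk⟩⁻¹, ?_, rfl⟩
    exact (hV.comap φ.toMonoidHom).conj_mem v hv _
  · -- `S₄` has a nonabelian 2-subgroup
    exfalso
    set φ : ↥M ≃* Equiv.Perm (Fin 4) := eM.trans f with hφ
    obtain ⟨S⟩ := (inferInstance : Nonempty (Sylow 2 (Equiv.Perm (Fin 4))))
    obtain ⟨T, hT⟩ := ((S.2.comap_of_injective φ.toMonoidHom φ.injective).map M.subtype).exists_le_sylow
    obtain ⟨T₀, hT₀⟩ := D.hsyl
    have hTab : IsMulCommutative ↥(T : Subgroup G) := by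
      obtain ⟨g, hg'⟩ := MulAction.exists_smul_eq G T T₀
      refine comm_iff.2 fun a ha b hb => ?_
      have hmem : ∀ c ∈ (T : Subgroup G), MulAut.conj g • c ∈ D.A := fun c hc => hT₀ (by
        rw [← hg']; exact Subgroup.smul_mem_pointwise_smul c (MulAut.conj g) _ hc)
      exact (MulAut.conj g).injective (by
        rw [map_mul, map_mul]; exact (D.comm _ (hmem a ha) _ (hmem b hb)).eq)
    have hSab : IsMulCommutative ↥(S : Subgroup (Equiv.Perm (Fin 4))) := by
      refine comm_iff.2 fun a ha b hb => ?_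
      have h1 := comm_iff.1 hTab (φ.symm a : G) (hT ⟨φ.symm a, (show φ (φ.symm a) ∈ (S : Subgroup (Equiv.Perm (Fin 4))) by
          rw [MulEquiv.apply_symm_apply]; exact ha), rfl⟩)
        (φ.symm b : G) (hT ⟨φ.symm b, (show φ (φ.symm b) ∈ (S : Subgroup (Equiv.Perm (Fin 4))) by
          rw [MulEquiv.apply_symm_apply]; exact hb), rfl⟩)
      have h2 : φ.symm a * φ.symm b = φ.symm b * φ.symm a := Subtype.ext h1
      exact φ.symm.injective (by rw [map_mul, map_mul]; exact h2)
    -- two elements of a Sylow subgroup of `S₄` not commuting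
    let a : Equiv.Perm (Fin 4) := Equiv.swap 0 1
    let c : Equiv.Perm (Fin 4) := Equiv.swap 0 2 * Equiv.swap 1 3
    have hp : IsPGroup 2 ↥(Subgroup.closure ({a, c} : Set (Equiv.Perm (Fin 4)))) := by
      refine IsPGroup.to_le ?_ ((Subgroup.closure_le (K :=
        (⟨⟨⟨{σ | σ * (Equiv.swap 0 1 * Equiv.swap 2 3) = (Equiv.swap 0 1 * Equiv.swap 2 3) * σ},
          by intro x y hx hy; revert x y; decide +kernel⟩, by decide +kernel⟩,
          by intro x hx; revert x; decide +kernel⟩ : Subgroup (Equiv.Perm (Fin 4))))).2 ?_)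
      · refine IsPGroup.of_card (n := 3) ?_
        show Nat.card {σ : Equiv.Perm (Fin 4) // σ * (Equiv.swap 0 1 * Equiv.swap 2 3) =
          (Equiv.swap 0 1 * Equiv.swap 2 3) * σ} = 2 ^ 3
        rw [Nat.card_eq_fintype_card]
        decide +kernel
      · rintro x (rfl | rfl) <;> (show _ = _; decide +kernel)
    obtain ⟨S', hS'⟩ := hp.exists_le_sylow
    obtain ⟨g, hg'⟩ := MulAction.exists_smul_eq (Equiv.Perm (Fin 4)) S' S
    have hmem : ∀ z ∈ ({a, c} : Set (Equiv.Perm (Fin 4))), g * z * g⁻¹ ∈ (S : Subgroup _) := fun z hz => by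
      rw [← hg']
      exact Subgroup.smul_mem_pointwise_smul z (MulAut.conj g) _ (hS' (Subgroup.subset_closure hz))
    have h1 := comm_iff.1 hSab _ (hmem a (Or.inl rfl)) _ (hmem c (Or.inr rfl))
    have h2 : a * c = c * a :=
      (MulAut.conj g).injective ((map_mul (MulAut.conj g) a c).trans (h1.trans (map_mul (MulAut.conj g) c a).symm))
    revert h2
    decide +kernel
  · -- `A₅` is simple
    refine NN.of_equiv (eM.trans f) fun J hJ hab => ?_
    haveI : IsSimpleGroup ↥(alternatingGroup (Fin 5)) := alternatingGroup.isSimpleGroup (by simp)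
    rcases hJ.eq_bot_or_eq_top with h | h
    · exact absurd (h ▸ inferInstance) hab
    · exact h
  · -- subfield groups
    have hK2 : ∃ i, 0 < i ∧ Fintype.card K = 2 ^ i ∧ i * j = n := by
      have hdvd : Fintype.card K ∣ 2 ^ n := by
        rw [← hj]
        refine dvd_pow_self _ fun h0 => ?_
        rw [h0, pow_zero] at hj
        exact absurd hj.symm (Nat.one_lt_two_pow (by omega)).ne'
      obtain ⟨i, -, hi⟩ := (Nat.dvd_prime_pow Nat.prime_two).1 hdvd
      have hi0 : i ≠ 0 := fun h0 => by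
        rw [h0, pow_zero] at hi
        exact absurd hi (Fintype.one_lt_card (α := K)).ne'
      refine ⟨i, Nat.pos_of_ne_zero hi0, hi, ?_⟩
      rw [hi, ← pow_mul] at hj
      exact Nat.pow_right_injective le_rfl hj
    obtain ⟨i, hi0, hi, hij⟩ := hK2
    have hoK : Odd (Fintype.card K - 1) := by
      rw [hi]
      exact Nat.Even.sub_odd Nat.one_le_two_pow (Nat.even_pow.2 ⟨even_two, by omega⟩) odd_one
    have hcM : Nat.card ↥M = Fintype.card K * (Fintype.card K ^ 2 - 1) := by
      rw [Nat.card_congr eM.toEquiv]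
      rcases hcase with ⟨⟨f⟩⟩ | ⟨⟨f⟩⟩
      · have h1 := Linear.card_PSL_two_mul (F := K)
        rw [show Nat.gcd 2 (Fintype.card K - 1) = 1 from Nat.coprime_two_left.2 hoK, one_mul] at h1
        rw [Nat.card_congr f.toEquiv, h1]
      · rw [Nat.card_congr f.toEquiv, Linear.card_PGL_eq, Linear.card_SL_two]
    by_cases hi1 : i = 1
    · refine NN.of_card_six ?_
      rw [hcM, hi, hi1]
      norm_num
    · have hdvd : 2 ^ i - 1 ∣ 2 ^ n - 1 := by
        have := Nat.sub_dvd_pow_sub_pow (2 ^ i) 1 j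
        rwa [one_pow, ← pow_mul, hij] at this
      rcases hp.eq_one_or_self_of_dvd _ hdvd with h1 | h1
      · exfalso
        have : 2 ^ 2 ≤ 2 ^ i := Nat.pow_le_pow_right two_pos (by omega)
        omega
      · have hin : 2 ^ i = 2 ^ n := by
          have := Nat.one_le_two_pow (n := i)
          have := Nat.one_le_two_pow (n := n)
          omega
        have hMtop : M = ⊤ := Subgroup.eq_top_of_card_eq M (by rw [hcM, hcardG, hi, hin])
        refine NN.of_equiv ((MulEquiv.subgroupCongr hMtop).trans Subgroup.topEquiv) fun J hJ hab => ?_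
        rcases hJ.eq_bot_or_eq_top with h | h
        · exact absurd (h ▸ inferInstance) hab
        · exact h

end Cfsg.Agent.H65.SelfNorm
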