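import Cfsg.Agent.H65.SelfNorm.Centralizer
import Cfsg.Agent.H65.CT.PSL

/-!
# Simple groups in which every nonabelian subgroup is self-normalising
-/

set_option autoImplicit false
set_option linter.unusedSectionVars false
set_option linter.style.haveILetI false

open MulAction

namespace Cfsg.Agent.H65.SelfNorm

universe u

variable {G : Type u} [Group G] [Finite G] [IsSimpleGroup G]

theorem SN.ct (hG : ¬ IsMulCommutative G) (h : SN G) :
    ∀ a b c : G, a ≠ 1 → b ≠ 1 → c ≠ 1 → Commute a b → Commute b c → Commute a c :=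
  fun a b c _ hb _ hab hbc => comm_iff.1 (h.centralizer_comm hG hb) a
    (Subgroup.mem_centralizer_singleton_iff.2 hab.eq) c
    (Subgroup.mem_centralizer_singleton_iff.2 hbc.symm.eq)

/-- The index of `A` in its normaliser is a prime. -/
theorem SN.m_prime (hG : ¬ IsMulCommutative G) (h : SN G) (D : CT.Setup G) : D.m.Prime := by
  classical
  haveI : Fact (Nat.Prime 2) := ⟨Nat.prime_two⟩
  obtain ⟨P, hP⟩ : ∃ P : G ⧸ D.N, P ≠ D.base := by
    by_contra hc
    push Not at hc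
    exact D.normalizer_ne_top hG ((Subgroup.eq_top_iff' _).2 fun g => D.smul_base.1 (hc _))
  obtain ⟨hcard, ⟨x, hx, hxP⟩, hinv⟩ := D.swap hG hP
  obtain ⟨r, hr, hrm⟩ := Nat.exists_prime_and_dvd (D.m_ne_one hG)
  haveI : Fact r.Prime := ⟨hr⟩
  obtain ⟨e, he⟩ := exists_prime_orderOf_dvd_card' (G := ↥(D.two P)) r (hcard.symm ▸ hrm)
  have hcomm : ∀ a ∈ D.two P, ∀ b ∈ D.two P, Commute a b := by
    intro a ha b hb
    have h1 := hinv x hx hxP (a * b) ((D.two P).mul_mem ha hb)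
    rw [show x * (a * b) * x⁻¹ = (x * a * x⁻¹) * (x * b * x⁻¹) by group, hinv x hx hxP a ha,
      hinv x hx hxP b hb] at h1
    exact (by simpa using congrArg (fun z : G => z⁻¹) h1 : b * a = a * b).symm
  set X := D.A ⊔ Subgroup.zpowers (e : G) with hX
  have heN : (e : G) ∈ D.N := D.smul_base.1 (Subgroup.mem_inf.1 e.2).1
  have hXN : X ≤ D.N := sup_le D.A_le (Subgroup.zpowers_le.2 heN)
  have hdec : ∀ z ∈ X, ∃ a ∈ D.A, ∃ i : ℤ, z = a * (e : G) ^ i := by
    intro z hz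
    have hz' : z ∈ (↑(D.A ⊔ Subgroup.zpowers (e : G)) : Set G) := hz
    rw [Subgroup.coe_mul_of_right_le_normalizer_left _ _ (Subgroup.zpowers_le.2 heN)] at hz'
    obtain ⟨a, ha, v, hv, rfl⟩ := Set.mem_mul.1 hz'
    obtain ⟨i, rfl⟩ := Subgroup.mem_zpowers_iff.1 hv
    exact ⟨a, ha, i, rfl⟩
  have hnab : ¬ IsMulCommutative ↥X := by
    intro hc
    have h1 := comm_iff.1 hc (e : G) (Subgroup.mem_sup_right (Subgroup.mem_zpowers _)) D.t
      (Subgroup.mem_sup_left D.htA)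
    have := D.two_inf hP (D.cent D.t D.htA D.t_ne_one _ h1) e.2
    rw [show e = 1 from Subtype.ext this, orderOf_one] at he
    exact hr.ne_one he.symm
  -- `X` is normal in `N`
  have hnormX : D.N ≤ Subgroup.normalizer (X : Set G) := by
    have key : ∀ n ∈ D.N, ∀ z ∈ X, n * z * n⁻¹ ∈ X := by
      intro n hn z hz
      have hbij := (D.two_toQuot_injective hP).bijective_of_nat_card_le (le_of_eq hcard.symm)
      obtain ⟨c, hc⟩ := hbij.2 ((⟨n, hn⟩ : ↥D.N) : ↥D.N ⧸ D.A.subgroupOf D.N)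
      have hb0 := QuotientGroup.eq.1 hc
      have hb : (c : G)⁻¹ * n ∈ D.A := Subgroup.mem_subgroupOf.1 hb0
      set b := (c : G)⁻¹ * n with hbdef
      have hbX : b ∈ X := Subgroup.mem_sup_left hb
      obtain ⟨a, ha, i, hw⟩ := hdec (b * z * b⁻¹) (X.mul_mem (X.mul_mem hbX hz) (X.inv_mem hbX))
      rw [show n * z * n⁻¹ = (c : G) * (b * z * b⁻¹) * (c : G)⁻¹ by rw [hbdef]; group, hw,
        show (c : G) * (a * (e : G) ^ i) * (c : G)⁻¹ =
          ((c : G) * a * (c : G)⁻¹) * ((c : G) * (e : G) ^ i * (c : G)⁻¹) by group,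
        ((hcomm c c.2 e e.2).zpow_right i).eq, mul_inv_cancel_right]
      exact X.mul_mem (Subgroup.mem_sup_left (D.conj_mem (D.smul_base.1 (Subgroup.mem_inf.1 c.2).1) ha))
        (Subgroup.mem_sup_right (Subgroup.zpow_mem _ (Subgroup.mem_zpowers _) i))
    intro n hn
    refine Subgroup.mem_normalizer_iff.2 fun z => ⟨key n hn z, fun hz => ?_⟩
    have := key n⁻¹ (D.N.inv_mem hn) _ hz
    simpa [mul_assoc] using this
  have hNX : D.N ≤ X := h.le_of_normal hnormX hnab
  have htwo : D.two P ≤ Subgroup.zpowers (e : G) := by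
    intro c hc
    obtain ⟨a, ha, i, hci⟩ := hdec c (hNX (D.smul_base.1 (Subgroup.mem_inf.1 hc).1))
    have ha1 : a = 1 := D.two_inf hP ha (by
      rw [show a = c * ((e : G) ^ i)⁻¹ by rw [hci]; group]
      exact (D.two P).mul_mem hc ((D.two P).inv_mem ((D.two P).zpow_mem e.2 i)))
    rw [hci, ha1, one_mul]
    exact Subgroup.zpow_mem _ (Subgroup.mem_zpowers _) i
  have hle := Subgroup.card_le_of_le htwo
  rw [hcard, Nat.card_zpowers, Subgroup.orderOf_coe, he] at hle
  have := Nat.le_antisymm hle (Nat.le_of_dvd D.m_odd.pos hrm)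
  exact this ▸ hr

/-- The forward direction. -/
theorem SN.exists_equiv (hG : ¬ IsMulCommutative G) (h : SN G) :
    ∃ (F : Type) (_ : Field F) (_ : Fintype F) (f : ℕ), 2 ≤ f ∧ Fintype.card F = 2 ^ f ∧
      (2 ^ f - 1).Prime ∧ Nonempty (G ≃* Matrix.ProjGenLinGroup (Fin 2) F) := by
  obtain ⟨D⟩ := CT.exists_setup hG (h.ct hG)
  obtain ⟨F, hF, hF', f, hf, hc, -, hm, he⟩ := D.exists_equiv hG
  refine ⟨F, hF, hF', f, hf, hc, ?_, he⟩
  rw [← hm, Nat.add_sub_cancel]
  exact h.m_prime hG D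

end Cfsg.Agent.H65.SelfNorm
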